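import Mathlib.Algebra.Polynomial.Derivative
import Mathlib.Algebra.Polynomial.Div
import Mathlib.Algebra.CharP.Lemmas
import Mathlib.Algebra.CharP.Algebra
import Mathlib.FieldTheory.IsAlgClosed.Basic
import Mathlib.FieldTheory.Finite.Basic
import Mathlib.LinearAlgebra.Dimension.Finite
import Mathlib.LinearAlgebra.Basis.VectorSpace
import Groth.Agent.S0077

/-!
# Fixed vectors of injective Frobenius-semilinear maps over algebraically closed fields
-/

set_option autoImplicit false
universe u

namespace K774.FrobAlg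

open Polynomial

variable {k : Type u} [Field k]

/-- The auxiliary polynomials. -/
noncomputable def Q (p : ℕ) (a : ℕ → k) : ℕ → k[X]
  | 0 => C (a 0) * X ^ p
  | (i + 1) => (Q p a i) ^ p + C (a (i + 1)) * X ^ p

theorem derivative_Q (p : ℕ) [CharP k p] (a : ℕ → k) (i : ℕ) : derivative (Q p a i) = 0 := by
  have hp : (p : k) = 0 := CharP.cast_eq_zero k p
  have hpX : (p : k[X]) = 0 := by
    rw [← C_eq_natCast, hp, C_0]
  cases i with
  | zero => simp [Q, derivative_X_pow]
  | succ i => simp [Q, derivative_pow]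

theorem eval_zero_Q (p : ℕ) (hp : p ≠ 0) (a : ℕ → k) (i : ℕ) : (Q p a i).eval 0 = 0 := by
  induction i with
  | zero => simp [Q, hp]
  | succ i ih => simp [Q, ih, hp]

theorem Q_eq_zero (p : ℕ) [hp : Fact p.Prime] [CharP k p] (a : ℕ → k) (i : ℕ) (c : k) (h : Q p a i = C c * X) :
    c = 0 := by
  have h1 := derivative_Q p a i
  rw [h] at h1
  simpa using h1

theorem all_eq_zero [IsAlgClosed k] (p : ℕ) [hp : Fact p.Prime] [CharP k p] (a : ℕ → k) (i : ℕ) (c : k)
    (h : Q p a i = C c * X) : ∀ j ≤ i, a j = 0 := by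
  induction i generalizing c with
  | zero =>
    have hc := Q_eq_zero p a 0 c h
    intro j hj
    obtain rfl : j = 0 := by omega
    rw [hc] at h
    simp only [Q, C_0, zero_mul, mul_eq_zero, C_eq_zero, pow_eq_zero_iff hp.out.ne_zero, X_ne_zero, or_false] at h
    exact h
  | succ i ih =>
    have hc := Q_eq_zero p a (i + 1) c h
    obtain ⟨b, hb⟩ := IsAlgClosed.exists_pow_nat_eq (a (i + 1)) hp.out.pos
    have h2 : (Q p a i + C b * X) ^ p = 0 := by
      rw [add_pow_char, mul_pow, ← C_pow, hb]
      have : Q p a i ^ p + C (a (i + 1)) * X ^ p = Q p a (i + 1) := rfl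
      rw [this, h, hc]
      simp
    have h3 : Q p a i = C (-b) * X := by
      have := (pow_eq_zero_iff hp.out.ne_zero).1 h2
      rw [C_neg, neg_mul]
      exact eq_neg_of_add_eq_zero_left this
    intro j hj
    rcases Nat.lt_or_ge j (i + 1) with hj' | hj'
    · exact ih _ h3 j (by omega)
    · obtain rfl : j = i + 1 := by omega
      have hb0 := Q_eq_zero p a i (-b) h3
      rw [← hb, neg_eq_zero.1 hb0, zero_pow hp.out.ne_zero]

theorem exists_ne_zero_fixed [IsAlgClosed k] (p : ℕ) [hp : Fact p.Prime] [CharP k p] (a : ℕ → k) (i : ℕ)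
    (h : ∃ j ≤ i, a j ≠ 0) : ∃ y : k, y ≠ 0 ∧ (Q p a i).eval y = y := by
  set P := Q p a i - X with hP
  have hd : derivative P = -1 := by
    simp [hP, derivative_Q]
  have h0 : P.coeff 0 = 0 := by
    rw [coeff_zero_eq_eval_zero]
    simp [hP, eval_zero_Q p hp.out.ne_zero]
  have hdiv : P = X * P.divX := by
    have := divX_mul_X_add P
    rw [h0, C_0, add_zero] at this
    rw [mul_comm]; exact this.symm
  have hdeg : P.divX.degree ≠ 0 := by
    intro hdeg
    have h1 := eq_C_of_degree_eq_zero hdeg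
    have h2 : Q p a i = C (P.divX.coeff 0 + 1) * X := by
      have h3 : Q p a i = P + X := by rw [hP]; ring
      rw [h3]
      conv_lhs => rw [hdiv, h1]
      rw [C_add, C_1]; ring
    obtain ⟨j, hj, hj'⟩ := h
    exact hj' (all_eq_zero p a i _ h2 j hj)
  obtain ⟨y, hy⟩ := IsAlgClosed.exists_root _ hdeg
  have hy' : P.divX.eval y = 0 := hy
  refine ⟨y, ?_, ?_⟩
  · rintro rfl
    have h4 : (derivative P).eval 0 = P.divX.eval 0 := by
      conv_lhs => rw [hdiv]
      simp
    rw [hd, hy'] at h4
    simp at h4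
  · have h5 : P.eval y = 0 := by
      rw [hdiv, eval_mul, hy', mul_zero]
    rw [hP, eval_sub, eval_X, sub_eq_zero] at h5
    exact h5

variable {V : Type u} [AddCommGroup V] [Module k V]

theorem exists_fixed_ne_zero [IsAlgClosed k] (p : ℕ) [hp : Fact p.Prime] [CharP k p] [FiniteDimensional k V] [Nontrivial V]
    (F : V →+ V) (hF : ∀ (c : k) (v : V), F (c • v) = c ^ p • F v) (hinj : Function.Injective F) :
    ∃ x : V, x ≠ 0 ∧ F x = x := by
  classical
  obtain ⟨v, hv⟩ := exists_ne (0 : V)
  let W : ℕ →o Submodule k V :=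
    { toFun := fun m => Submodule.span k ((fun i => F^[i] v) '' (Finset.range m : Set ℕ))
      monotone' := fun m n h => Submodule.span_mono (Set.image_mono (by
        intro x hx
        simp only [Finset.coe_range, Set.mem_Iio] at hx ⊢
        omega)) }
  obtain ⟨n, hn⟩ := monotone_stabilizes_iff_noetherian.2 (inferInstance : IsNoetherian k V) W
  have hex : ∃ m, F^[m] v ∈ W m := by
    refine ⟨n, ?_⟩
    rw [hn (n + 1) (by omega)]
    exact Submodule.subset_span ⟨n, by simp, rfl⟩
  set m := Nat.find hex with hm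
  have hm1 : F^[m] v ∈ W m := Nat.find_spec hex
  have hm2 : ∀ m' < m, F^[m'] v ∉ W m' := fun m' h => Nat.find_min hex h
  have hne : ∀ i, F^[i] v ≠ 0 := by
    intro i
    induction i with
    | zero => exact hv
    | succ i ih =>
      rw [Function.iterate_succ_apply']
      intro h
      apply ih
      apply hinj
      rw [h, map_zero]
  have hm0 : m ≠ 0 := by
    intro h0
    rw [h0] at hm1
    have : W 0 = ⊥ := by simp [W]
    rw [this, Submodule.mem_bot] at hm1
    exact hne 0 hm1
  obtain ⟨m', hm'⟩ : ∃ m', m = m' + 1 := ⟨m - 1, by omega⟩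
  have mem_W : ∀ m (x : V), x ∈ W m ↔ ∃ a : ℕ → k, x = ∑ i ∈ Finset.range m, a i • F^[i] v := by
    intro m x
    constructor
    · intro hx
      have hx' : x ∈ Submodule.span k ((fun i => F^[i] v) '' (Finset.range m : Set ℕ)) := hx
      rw [Submodule.mem_span_image_finset_iff_exists_fun'] at hx'
      obtain ⟨c, hc⟩ := hx'
      exact ⟨c, hc.symm⟩
    · rintro ⟨a, rfl⟩
      refine Submodule.sum_mem _ fun i hi => Submodule.smul_mem _ _ (Submodule.subset_span ⟨i, hi, rfl⟩)
  obtain ⟨a, ha⟩ := (mem_W m _).1 hm1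
  have ha' : ∃ j ≤ m', a j ≠ 0 := by
    by_contra hcon
    push Not at hcon
    apply hne m
    rw [ha]
    refine Finset.sum_eq_zero fun i hi => ?_
    rw [Finset.mem_range] at hi
    rw [hcon i (by omega), zero_smul]
  obtain ⟨y, hy0, hy⟩ := exists_ne_zero_fixed p a m' ha'
  let x : ℕ → k := fun i => (Q p a i).eval y
  have hx0 : x 0 = a 0 * y ^ p := by simp [x, Q]
  have hxs : ∀ i, x (i + 1) = x i ^ p + a (i + 1) * y ^ p := fun i => by simp [x, Q]
  have hxm : x m' = y := hy
  refine ⟨∑ i ∈ Finset.range m, x i • F^[i] v, ?_, ?_⟩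
  · intro h0
    rw [hm', Finset.sum_range_succ, hxm] at h0
    apply hm2 m' (by omega)
    have h1 : F^[m'] v = y⁻¹ • -(∑ i ∈ Finset.range m', x i • F^[i] v) := by
      rw [eq_inv_smul_iff₀ hy0]
      exact eq_neg_of_add_eq_zero_right h0
    rw [h1]
    exact Submodule.smul_mem _ _ (Submodule.neg_mem _ ((mem_W m' _).2 ⟨x, rfl⟩))
  · rw [map_sum]
    simp only [hF, ← Function.iterate_succ_apply']
    rw [hm', Finset.sum_range_succ, hxm]
    have h2 : F^[m' + 1] v = ∑ i ∈ Finset.range (m' + 1), a i • F^[i] v := by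
      rw [← hm']; exact ha
    rw [h2, Finset.sum_range_succ', Finset.sum_range_succ' (fun i => x i • F^[i] v)]
    rw [smul_add, Finset.smul_sum, ← add_assoc, ← Finset.sum_add_distrib]
    congr 1
    · refine Finset.sum_congr rfl fun i _ => ?_
      rw [hxs, add_smul, smul_smul]
      congr 2
      ring
    · rw [hx0, smul_smul]
      congr 1
      ring

/-- The fixed vectors of an injective Frobenius-semilinear map span. -/
theorem span_fixed [IsAlgClosed k] (p : ℕ) [hp : Fact p.Prime] [CharP k p] [FiniteDimensional k V]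
    (F : V →+ V) (hF : ∀ (c : k) (v : V), F (c • v) = c ^ p • F v) (hinj : Function.Injective F) :
    Submodule.span k {v : V | F v = v} = ⊤ := by
  set W := Submodule.span k {v : V | F v = v} with hW
  by_contra hne
  have hnt : Nontrivial (V ⧸ W) := Submodule.Quotient.nontrivial_iff.2 hne
  let F' : V →ₛₗ[frobenius k p] V :=
    { toFun := F, map_add' := F.map_add, map_smul' := fun c v => hF c v }
  have hWW : W ≤ W.comap F' := by
    rw [hW, Submodule.span_le]
    intro v hv
    show F v ∈ W
    have hv' : F v = v := hv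
    rw [hv']
    exact Submodule.subset_span hv
  have hsurj : ∀ w ∈ W, ∃ w' ∈ W, F w' = w := by
    intro w hw
    refine Submodule.span_induction (p := fun w _ => ∃ w' ∈ W, F w' = w) ?_ ?_ ?_ ?_ hw
    · intro x hx
      exact ⟨x, Submodule.subset_span hx, hx⟩
    · exact ⟨0, W.zero_mem, map_zero F⟩
    · rintro x y _ _ ⟨x', hx', rfl⟩ ⟨y', hy', rfl⟩
      exact ⟨x' + y', W.add_mem hx' hy', map_add F _ _⟩
    · rintro c x _ ⟨x', hx', rfl⟩
      obtain ⟨d, hd⟩ := IsAlgClosed.exists_pow_nat_eq c hp.out.pos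
      exact ⟨d • x', W.smul_mem _ hx', by rw [hF, hd]⟩
  let G : V ⧸ W →ₛₗ[frobenius k p] V ⧸ W := W.mapQ W F' hWW
  have hGmk : ∀ v, G (Submodule.Quotient.mk v) = Submodule.Quotient.mk (F v) := fun v => rfl
  have hGinj : Function.Injective G.toAddMonoidHom := by
    rw [injective_iff_map_eq_zero]
    intro x hx
    obtain ⟨v, rfl⟩ := Submodule.Quotient.mk_surjective _ x
    have hx' : (Submodule.Quotient.mk (F v) : V ⧸ W) = 0 := hx
    rw [Submodule.Quotient.mk_eq_zero] at hx' ⊢
    obtain ⟨w, hw, hw'⟩ := hsurj _ hx'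
    rw [← hinj hw']
    exact hw
  obtain ⟨x, hx0, hx⟩ := exists_fixed_ne_zero (V := V ⧸ W) p G.toAddMonoidHom (fun c v => G.map_smulₛₗ c v) hGinj
  obtain ⟨v, rfl⟩ := Submodule.Quotient.mk_surjective _ x
  have hx' : (Submodule.Quotient.mk (F v) : V ⧸ W) = Submodule.Quotient.mk v := hx
  rw [Submodule.Quotient.eq] at hx'
  -- solve in `W`
  have hres : ∃ w ∈ W, F w - w = F v - v := by
    let FW : W →+ W :=
      { toFun := fun w => ⟨F w.1, hWW w.2⟩
        map_zero' := Subtype.ext (map_zero F)
        map_add' := fun a b => Subtype.ext (map_add F _ _) }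
    obtain ⟨w, hw⟩ := Groth.Agent.S0077.result (k := k) (V := W) p FW (fun c w => Subtype.ext (hF c w.1)) ⟨F v - v, hx'⟩
    exact ⟨w.1, w.2, congrArg Subtype.val hw⟩
  obtain ⟨w, hw, hwe⟩ := hres
  apply hx0
  rw [Submodule.Quotient.mk_eq_zero]
  have h6 : v - w ∈ W := by
    apply Submodule.subset_span
    show F (v - w) = v - w
    rw [map_sub]
    have := hwe
    rw [sub_eq_sub_iff_add_eq_add] at this ⊢
    rw [add_comm (F v) w, add_comm (F w) v] at *
    rw [add_comm, this]
    abel
  have := W.add_mem h6 hw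
  simpa using this

/-- The number of fixed vectors of an injective Frobenius-semilinear map. -/
theorem card_fixed [IsAlgClosed k] (p : ℕ) [hp : Fact p.Prime] [CharP k p] [FiniteDimensional k V]
    (F : V →+ V) (hF : ∀ (c : k) (v : V), F (c • v) = c ^ p • F v) (hinj : Function.Injective F) :
    Nat.card {v : V // F v = v} = p ^ Module.finrank k V := by
  classical
  obtain ⟨b, hb1, hb2, hb3⟩ := exists_linearIndependent k {v : V | F v = v}
  rw [span_fixed p F hF hinj] at hb2
  let B : Module.Basis b k V := Module.Basis.mk hb3 (by rw [Subtype.range_coe, hb2])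
  have hB : ∀ i, B i = i.1 := fun i => by rw [Module.Basis.mk_apply]
  have hfix : ∀ i, F (B i) = B i := fun i => by rw [hB]; exact hb1 i.2
  let _ : Fintype b := FiniteDimensional.fintypeBasisIndex B
  have hFB : ∀ v, F v = ∑ i, (B.repr v i) ^ p • B i := by
    intro v
    conv_lhs => rw [← B.sum_repr v]
    rw [map_sum]
    exact Finset.sum_congr rfl fun i _ => by rw [hF, hfix]
  have hiff : ∀ v, F v = v ↔ ∀ i, B.repr v i ∈ (⊥ : Subfield k) := by
    intro v
    simp only [Subfield.mem_bot_iff_pow_eq_self k p]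
    constructor
    · intro h i
      have h1 := hFB v
      rw [h] at h1
      have h2 : B.repr v i = B.repr (∑ i, (B.repr v i) ^ p • B i) i := by rw [← h1]
      rw [B.repr_sum_self] at h2
      exact h2.symm
    · intro h
      rw [hFB]
      conv_rhs => rw [← B.sum_repr v]
      exact Finset.sum_congr rfl fun i _ => by rw [h i]
  let e : {v : V // F v = v} ≃ (b → (⊥ : Subfield k)) :=
    { toFun := fun v i => ⟨B.repr v.1 i, (hiff v.1).1 v.2 i⟩
      invFun := fun f => ⟨∑ i, (f i : k) • B i, (hiff _).2 fun i => by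
        rw [B.repr_sum_self]; exact (f i).2⟩
      left_inv := fun v => Subtype.ext (B.sum_repr v.1)
      right_inv := fun f => by
        funext i
        apply Subtype.ext
        show B.repr (∑ i, (f i : k) • B i) i = _
        rw [B.repr_sum_self] }
  rw [Nat.card_congr e, Nat.card_fun, Subfield.card_bot k p, Nat.card_eq_fintype_card, Module.finrank_eq_card_basis B]

end K774.FrobAlg
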