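import Groth.Agent.FrobMod.K774.AlgClosed
import Groth.Agent.S0517
import Groth.Agent.Hensel.MvHensel
import Mathlib.RingTheory.LocalRing.Module
import Mathlib.FieldTheory.IsAlgClosed.AlgebraicClosure

/-!
# Frobenius-semilinear maps over strictly henselian local rings of characteristic `p`
-/

set_option autoImplicit false
universe u v

open MvPolynomial

namespace K774.FrobHens

variable {R : Type u} [CommRing R] (p : ℕ) {n : ℕ}

/-- The Frobenius-semilinear map of `R^n` attached to a matrix. -/
def FA (A : Fin n → Fin n → R) (x : Fin n → R) : Fin n → R := fun i => ∑ j, A i j * x j ^ p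

/-- The system of equations `F_A x - x = c`. -/
noncomputable def P (A : Fin n → Fin n → R) (c : Fin n → R) (i : Fin n) : MvPolynomial (Fin n) R :=
  ∑ j, C (A i j) * X j ^ p - X i - C (c i)

theorem eval_P (A : Fin n → Fin n → R) (c : Fin n → R) (i : Fin n) (x : Fin n → R) :
    MvPolynomial.eval x (P p A c i) = FA p A x i - x i - c i := by
  simp [P, FA]

theorem eval_map_P {S : Type*} [CommRing S] (φ : R →+* S) (A : Fin n → Fin n → R) (c : Fin n → R) (i : Fin n) (x : Fin n → S) :
    MvPolynomial.eval x (MvPolynomial.map φ (P p A c i)) = FA p (fun i j => φ (A i j)) x i - x i - φ (c i) := by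
  simp [P, FA]

theorem jac_P [CharP R p] (A : Fin n → Fin n → R) (c : Fin n → R) :
    Groth.Agent.Hensel.MvHensel.jac (P p A c) = -1 := by
  have hp : (p : MvPolynomial (Fin n) R) = 0 := CharP.cast_eq_zero _ p
  ext i j : 2
  simp only [Groth.Agent.Hensel.MvHensel.jac, Matrix.of_apply, P, Matrix.neg_apply, Matrix.one_apply]
  rw [map_sub, map_sub, map_sum]
  have h1 : ∑ x, pderiv i (C (A j x) * X x ^ p) = (0 : MvPolynomial (Fin n) R) := by
    refine Finset.sum_eq_zero fun x _ => ?_
    rw [Derivation.leibniz, pderiv_C, smul_zero, add_zero, Derivation.leibniz_pow]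
    rw [← Nat.cast_smul_eq_nsmul (MvPolynomial (Fin n) R), hp, zero_smul, smul_zero]
  rw [h1, pderiv_C, pderiv_X, zero_sub, sub_zero]
  by_cases h : i = j
  · subst h; simp
  · simp [h]

theorem etale [CharP R p] (A : Fin n → Fin n → R) (c : Fin n → R) :
    Algebra.Etale R (MvPolynomial (Fin n) R ⧸ Ideal.span (Set.range (P p A c))) := by
  have h1 : IsUnit (Ideal.Quotient.mk (Ideal.span (Set.range (P p A c))) (Groth.Agent.Hensel.MvHensel.jac (P p A c)).det) := by
    rw [jac_P]
    apply IsUnit.map
    rw [Matrix.det_neg, Matrix.det_one, mul_one]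
    exact (isUnit_one.neg).pow _
  have := IsLocalization.away_of_isUnit_of_bijective
    (MvPolynomial (Fin n) R ⧸ Ideal.span (Set.range (P p A c))) (R := MvPolynomial (Fin n) R ⧸ Ideal.span (Set.range (P p A c)))
    h1 Function.bijective_id
  exact Groth.Agent.Hensel.MvHensel.etale_of_away_jacobian (P p A c) _

/-- The composite of the residue map with an algebraic closure of the residue field. -/
noncomputable def toK (R : Type u) [CommRing R] [IsLocalRing R] : R →+* AlgebraicClosure (IsLocalRing.ResidueField R) :=
  (algebraMap (IsLocalRing.ResidueField R) _).comp (IsLocalRing.residue R)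

instance isLocalHom_toK (R : Type u) [CommRing R] [IsLocalRing R] : IsLocalHom (toK R) := by
  unfold toK
  infer_instance

theorem toK_eq_zero_iff {R : Type u} [CommRing R] [IsLocalRing R] (x : R) : toK R x = 0 ↔ IsLocalRing.residue R x = 0 := by
  unfold toK
  rw [RingHom.comp_apply, map_eq_zero]

theorem isSepClosed_residueField (k : Type u) [Field k] [IsAlgClosed k] :
    IsSepClosed (IsLocalRing.ResidueField k) := by
  have h : IsAlgClosed (IsLocalRing.ResidueField k) :=
    IsAlgClosed.of_ringEquiv k _ (RingEquiv.ofBijective (IsLocalRing.residue k)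
      ⟨RingHom.injective _, IsLocalRing.residue_surjective⟩)
  infer_instance

/-- The solutions of the system over `R` and over the algebraic closure of the residue field. -/
theorem bijOn [HenselianLocalRing R] [IsSepClosed (IsLocalRing.ResidueField R)] [CharP R p]
    (A : Fin n → Fin n → R) (c : Fin n → R) :
    Set.BijOn (fun r : Fin n → R => toK R ∘ r)
      {r : Fin n → R | ∀ i, FA p A r i - r i = c i}
      {s : Fin n → AlgebraicClosure (IsLocalRing.ResidueField R) |
        ∀ i, FA p (fun i j => toK R (A i j)) s i - s i = toK R (c i)} := by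
  have := etale p A c
  have hsep := isSepClosed_residueField (AlgebraicClosure (IsLocalRing.ResidueField R))
  have := Groth.Agent.S0517.result R (AlgebraicClosure (IsLocalRing.ResidueField R)) (toK R) n (P p A c)
  convert this using 1
  · ext r
    simp only [Set.mem_ofPred_eq, eval_P, sub_eq_zero]
  · ext r
    simp only [Set.mem_ofPred_eq, eval_map_P, sub_eq_zero]

variable [hp : Fact p.Prime]

/-- `F_A` as an additive map. -/
def FAhom [CharP R p] (A : Fin n → Fin n → R) : (Fin n → R) →+ (Fin n → R) where
  toFun := FA p A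
  map_zero' := by ext i; simp [FA, hp.out.ne_zero]
  map_add' x y := by
    ext i
    simp only [FA, Pi.add_apply]
    rw [← Finset.sum_add_distrib]
    refine Finset.sum_congr rfl fun j _ => ?_
    rw [add_pow_char, mul_add]

theorem FA_smul (A : Fin n → Fin n → R) (c : R) (x : Fin n → R) : FA p A (c • x) = c ^ p • FA p A x := by
  ext i
  simp only [FA, Pi.smul_apply, smul_eq_mul, Finset.mul_sum, mul_pow]
  refine Finset.sum_congr rfl fun j _ => ?_
  ring

theorem charP_residue [IsLocalRing R] [CharP R p] : CharP (AlgebraicClosure (IsLocalRing.ResidueField R)) p := by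
  have h : ((p : ℕ) : AlgebraicClosure (IsLocalRing.ResidueField R)) = 0 := by
    rw [← map_natCast (toK R), CharP.cast_eq_zero, map_zero]
  exact (CharP.charP_iff_prime_eq_zero hp.out).2 h

theorem surjective_FA [HenselianLocalRing R] [IsSepClosed (IsLocalRing.ResidueField R)] [CharP R p]
    (A : Fin n → Fin n → R) (c : Fin n → R) : ∃ x : Fin n → R, FA p A x - x = c := by
  have hK := charP_residue (R := R) p
  obtain ⟨y, hy⟩ := Groth.Agent.S0077.result (k := AlgebraicClosure (IsLocalRing.ResidueField R)) p
    (FAhom p (fun i j => toK R (A i j))) (fun c x => FA_smul p _ c x) (toK R ∘ c)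
  obtain ⟨x, hx, -⟩ := (bijOn p A c).surjOn (show y ∈ _ from fun i => congrFun hy i)
  exact ⟨x, funext hx⟩

theorem injective_fixed [HenselianLocalRing R] [IsSepClosed (IsLocalRing.ResidueField R)] [CharP R p]
    (A : Fin n → Fin n → R) (x : Fin n → R) (hx : FA p A x = x) (h0 : ∀ i, x i ∈ IsLocalRing.maximalIdeal R) : x = 0 := by
  refine (bijOn p A 0).injOn (x₁ := x) (x₂ := 0) ?_ ?_ ?_
  · intro i
    rw [hx]; simp
  · intro i
    have : FA p A 0 = 0 := (FAhom p A).map_zero
    rw [this]; simp
  · ext i
    simp only [Function.comp_apply, Pi.zero_apply, map_zero]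
    rw [toK_eq_zero_iff, IsLocalRing.residue_eq_zero_iff]
    exact h0 i

theorem card_fixed [HenselianLocalRing R] [IsSepClosed (IsLocalRing.ResidueField R)] [CharP R p]
    (A : Fin n → Fin n → R) (hA : IsUnit (Matrix.of fun i j => IsLocalRing.residue R (A i j)).det) :
    Nat.card {x : Fin n → R // FA p A x = x} = p ^ n := by
  have hK := charP_residue (R := R) p
  have h1 := bijOn p A 0
  have h2 : Nat.card {x : Fin n → R // FA p A x = x} = Nat.card {s : Fin n → AlgebraicClosure (IsLocalRing.ResidueField R) //
      FAhom p (fun i j => toK R (A i j)) s = s} := by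
    have e1 : {r : Fin n → R | ∀ i, FA p A r i - r i = (0 : Fin n → R) i} = {x | FA p A x = x} := by
      ext x
      simp only [Set.mem_ofPred_eq, Pi.zero_apply, sub_eq_zero]
      exact ⟨fun h => funext h, fun h i => congrFun h i⟩
    have e2 : {s : Fin n → AlgebraicClosure (IsLocalRing.ResidueField R) |
        ∀ i, FA p (fun i j => toK R (A i j)) s i - s i = toK R ((0 : Fin n → R) i)} =
        {s | FAhom p (fun i j => toK R (A i j)) s = s} := by
      ext x
      simp only [Set.mem_ofPred_eq, Pi.zero_apply, map_zero, sub_eq_zero]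
      exact ⟨fun h => funext h, fun h i => congrFun h i⟩
    rw [e1, e2] at h1
    exact Nat.card_congr (h1.equiv _)
  rw [h2, K774.FrobAlg.card_fixed p _ (fun c x => FA_smul p _ c x)]
  · simp
  · rw [injective_iff_map_eq_zero]
    intro x hx
    have hx' : Matrix.mulVec (Matrix.of fun i j => toK R (A i j)) (fun j => x j ^ p) = 0 := by
      ext i
      have h4 : FA p (fun i j => toK R (A i j)) x i = 0 := congrFun hx i
      simpa [Matrix.mulVec, dotProduct, FA] using h4
    have hdet : IsUnit (Matrix.of fun i j => toK R (A i j)).det := by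
      have : (Matrix.of fun i j => toK R (A i j)) =
          (algebraMap (IsLocalRing.ResidueField R) (AlgebraicClosure (IsLocalRing.ResidueField R))).mapMatrix
            (Matrix.of fun i j => IsLocalRing.residue R (A i j)) := by
        ext i j; rfl
      rw [this, ← RingHom.map_det]
      exact hA.map _
    have h3 := Matrix.eq_zero_of_mulVec_eq_zero hdet.ne_zero hx'
    ext i
    have := congrFun h3 i
    exact (pow_eq_zero_iff hp.out.ne_zero).1 this

open TensorProduct

variable {M : Type v} [AddCommGroup M] [Module R M]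

/-- `T - 1` is surjective for a Frobenius-semilinear additive endomorphism of a finitely generated module. -/
theorem surjective_sub [HenselianLocalRing R] [IsSepClosed (IsLocalRing.ResidueField R)] [CharP R p] [Module.Finite R M]
    (T : M →+ M) (hT : ∀ (r : R) (m : M), T (r • m) = r ^ p • T m) (m : M) : ∃ x, T x - x = m := by
  obtain ⟨n, g, hg⟩ := Module.Finite.exists_fin (R := R) (M := M)
  have hex : ∀ m : M, ∃ c : Fin n → R, ∑ i, c i • g i = m := by
    intro m
    rw [← Submodule.mem_span_range_iff_exists_fun R, hg]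
    trivial
  choose a ha using fun j => hex (T (g j))
  obtain ⟨c, hc⟩ := hex m
  obtain ⟨x, hx⟩ := surjective_FA p (fun i j => a j i) c
  refine ⟨∑ j, x j • g j, ?_⟩
  rw [map_sum]
  simp only [hT, ← ha]
  simp only [Finset.smul_sum, smul_smul]
  rw [Finset.sum_comm]
  rw [← Finset.sum_sub_distrib, ← hc]
  refine Finset.sum_congr rfl fun i _ => ?_
  rw [← hx, ← Finset.sum_smul, ← sub_smul]
  congr 1
  simp only [Pi.sub_apply, FA]
  congr 1
  exact Finset.sum_congr rfl fun j _ => mul_comm _ _

/-- The number of fixed vectors of a Frobenius-semilinear map whose values generate, on a finitely presented module. -/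
theorem card_fixed_module [HenselianLocalRing R] [IsSepClosed (IsLocalRing.ResidueField R)] [CharP R p]
    [Module.FinitePresentation R M]
    (T : M →+ M) (hT : ∀ (r : R) (m : M), T (r • m) = r ^ p • T m) (hspan : Submodule.span R (Set.range T) = ⊤) :
    Nat.card {m : M // T m = m} =
      p ^ Module.finrank (IsLocalRing.ResidueField R) (IsLocalRing.ResidueField R ⊗[R] M) := by
  classical
  let κ := IsLocalRing.ResidueField R
  let n := Module.finrank κ (κ ⊗[R] M)
  let b : Module.Basis (Fin n) κ (κ ⊗[R] M) := Module.finBasis κ (κ ⊗[R] M)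
  have hmk : Function.Surjective (TensorProduct.mk R κ M 1) := by
    apply TensorProduct.mk_surjective
    exact IsLocalRing.residue_surjective
  choose g hg using fun i => hmk (b i)
  have hspang : Submodule.span R (Set.range g) = ⊤ :=
    IsLocalRing.span_eq_top_of_tmul_eq_basis g b hg
  have hex : ∀ m : M, ∃ c : Fin n → R, ∑ i, c i • g i = m := by
    intro m
    rw [← Submodule.mem_span_range_iff_exists_fun R, hspang]
    trivial
  choose a ha using fun j => hex (T (g j))
  let A : Fin n → Fin n → R := fun i j => a j i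
  let π : (Fin n → R) →ₗ[R] M := Fintype.linearCombination R g
  have hπ : ∀ x, π x = ∑ i, x i • g i := fun x => Fintype.linearCombination_apply R g x
  have hπs : Function.Surjective π := fun m => by
    obtain ⟨c, hc⟩ := hex m
    exact ⟨c, by rw [hπ, hc]⟩
  have hπT : ∀ x, π (FA p A x) = T (π x) := by
    intro x
    rw [hπ, hπ, map_sum]
    simp only [hT, ← ha, Finset.smul_sum, smul_smul]
    rw [Finset.sum_comm]
    refine Finset.sum_congr rfl fun i _ => ?_
    rw [← Finset.sum_smul]
    congr 1
    exact Finset.sum_congr rfl fun j _ => mul_comm _ _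
  have hmkπ : ∀ x, (1 : κ) ⊗ₜ[R] π x = ∑ i, IsLocalRing.residue R (x i) • b i := by
    intro x
    rw [hπ, TensorProduct.tmul_sum]
    refine Finset.sum_congr rfl fun i _ => ?_
    rw [← hg i, TensorProduct.mk_apply, TensorProduct.tmul_smul]
    rfl
  have hker : ∀ x, π x = 0 → ∀ i, x i ∈ IsLocalRing.maximalIdeal R := by
    intro x hx i
    have h1 := hmkπ x
    rw [hx, TensorProduct.tmul_zero] at h1
    have h2 := congrArg (fun y => b.repr y i) h1.symm
    simp only [b.repr_sum_self, map_zero, Finsupp.coe_zero, Pi.zero_apply] at h2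
    exact (IsLocalRing.residue_eq_zero_iff _).1 h2
  have hfg : (LinearMap.ker π).FG := Module.FinitePresentation.fg_ker π hπs
  -- the fixed vectors correspond
  have hbij : Function.Bijective (fun x : {x : Fin n → R // FA p A x = x} =>
      (⟨π x.1, by rw [← hπT, x.2]⟩ : {m : M // T m = m})) := by
    constructor
    · intro x y hxy
      have h1 : π (x.1 - y.1) = 0 := by
        rw [map_sub, sub_eq_zero]
        exact congrArg Subtype.val hxy
      have h2 : FA p A (x.1 - y.1) = x.1 - y.1 := by
        have := (FAhom p A).map_sub x.1 y.1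
        change FA p A (x.1 - y.1) = FA p A x.1 - FA p A y.1 at this
        rw [this, x.2, y.2]
      have h3 := injective_fixed p A _ h2 (hker _ h1)
      exact Subtype.ext (sub_eq_zero.1 h3)
    · rintro ⟨m, hm⟩
      obtain ⟨x₀, hx₀⟩ := hπs m
      have h1 : FA p A x₀ - x₀ ∈ LinearMap.ker π := by
        rw [LinearMap.mem_ker, map_sub, hπT, hx₀, hm, sub_self]
      have hNT : ∀ x ∈ LinearMap.ker π, FA p A x ∈ LinearMap.ker π := by
        intro x hx
        rw [LinearMap.mem_ker] at hx ⊢
        rw [hπT, hx, map_zero]
      let TN : LinearMap.ker π →+ LinearMap.ker π :=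
        { toFun := fun x => ⟨FA p A x.1, hNT _ x.2⟩
          map_zero' := Subtype.ext (FAhom p A).map_zero
          map_add' := fun x y => Subtype.ext ((FAhom p A).map_add x.1 y.1) }
      have : Module.Finite R (LinearMap.ker π) := Module.Finite.of_fg hfg
      obtain ⟨y, hy⟩ := surjective_sub p TN (fun r x => Subtype.ext (FA_smul p A r x.1)) ⟨_, h1⟩
      have hy' : FA p A y.1 - y.1 = FA p A x₀ - x₀ := congrArg Subtype.val hy
      refine ⟨⟨x₀ - y.1, ?_⟩, ?_⟩
      · have h5 := (FAhom p A).map_sub x₀ y.1
        change FA p A (x₀ - y.1) = FA p A x₀ - FA p A y.1 at h5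
        rw [h5]
        have : FA p A x₀ - FA p A y.1 - (x₀ - y.1) = (FA p A x₀ - x₀) - (FA p A y.1 - y.1) := by abel
        rw [← sub_eq_zero, this, hy', sub_self]
      · apply Subtype.ext
        show π (x₀ - y.1) = m
        rw [map_sub, hx₀, LinearMap.mem_ker.1 y.2, sub_zero]
  rw [← Nat.card_congr (Equiv.ofBijective _ hbij)]
  apply card_fixed
  -- the matrix is invertible modulo the maximal ideal
  have hTspan : Submodule.span R (Set.range fun j => T (g j)) = ⊤ := by
    rw [eq_top_iff, ← hspan, Submodule.span_le]
    rintro _ ⟨m, rfl⟩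
    obtain ⟨c, rfl⟩ := hex m
    rw [map_sum]
    refine Submodule.sum_mem _ fun i _ => ?_
    rw [hT]
    exact Submodule.smul_mem _ _ (Submodule.subset_span ⟨i, rfl⟩)
  have hcol : ∀ v : Fin n → κ, ∃ w : Fin n → κ, Matrix.mulVec (Matrix.of fun i j => IsLocalRing.residue R (A i j)) w = v := by
    intro v
    obtain ⟨m, hm⟩ := hmk (∑ i, v i • b i)
    have hm2 : m ∈ Submodule.span R (Set.range fun j => T (g j)) := by rw [hTspan]; trivial
    obtain ⟨c, hc⟩ := (Submodule.mem_span_range_iff_exists_fun R).1 hm2
    refine ⟨fun j => IsLocalRing.residue R (c j), ?_⟩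
    have h3 : m = π (fun i => ∑ j, A i j * c j) := by
      rw [← hc, hπ]
      simp only [← ha, Finset.smul_sum, smul_smul, Finset.sum_smul]
      rw [Finset.sum_comm]
      refine Finset.sum_congr rfl fun i _ => ?_
      refine Finset.sum_congr rfl fun j _ => ?_
      rw [mul_comm]
    have h4 := hmkπ (fun i => ∑ j, A i j * c j)
    rw [← h3] at h4
    have h5 : ∑ i, v i • b i = ∑ i, IsLocalRing.residue R (∑ j, A i j * c j) • b i := by
      rw [← h4, ← hm]; rfl
    ext i
    have h6 := congrArg (fun y => b.repr y i) h5.symm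
    simp only [b.repr_sum_self] at h6
    rw [← h6, map_sum]
    simp [Matrix.mulVec, dotProduct]
  have hunit : IsUnit (Matrix.of fun i j => IsLocalRing.residue R (A i j)) :=
    Matrix.mulVec_surjective_iff_isUnit.1 hcol
  exact (Matrix.isUnit_iff_isUnit_det _).1 hunit

end K774.FrobHens
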